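import Groth.Agent.RefDiv.Order
import Groth.Agent.RefStalk.RankOne
import Groth.Agent.InvGen.Basic
import Groth.Agent.TMul.Power
import Groth.Agent.S16491
import Mathlib

/-!
Coherent torsion-free modules of rank one on an integral scheme: generators, orders of rational sections.
-/

set_option autoImplicit false
set_option linter.style.haveILetI false
set_option backward.isDefEq.respectTransparency false

universe u

open CategoryTheory CategoryTheory.Limits AlgebraicGeometry TopologicalSpace Opposite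
open Groth.Agent.QC (res resO res_res res_smul)
open Groth.Agent.WeakAssLib (mgerm mgerm_smul mgerm_res)
open Groth.Agent.RefStalk (msp msp_germ msp_smul msp_msp stalkMap_msp msp_injective exists_mem_smul toGen)
open TMul (IsGen)

noncomputable section

namespace Groth.Agent.RefDiv

variable {X : Scheme.{u}}

/-- The germs of a generator are free generators of the stalks. -/
theorem bijective_germ_of_isGen {M : X.Modules} {W : X.Opens} {e : Γ(M, W)} (he : IsGen e) {y : X} (hy : y ∈ W) :
    Function.Bijective fun a : X.presheaf.stalk y => a • mgerm M hy e := by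
  refine ⟨fun a b hab => ?_, fun u => ?_⟩
  · obtain ⟨Qa, hQa, r, rfl⟩ := TopCat.Presheaf.exists_germ_eq X.presheaf a
    obtain ⟨Qb, hQb, r', rfl⟩ := TopCat.Presheaf.exists_germ_eq X.presheaf b
    let O := Qa ⊓ Qb ⊓ W
    have hO : y ∈ O := ⟨⟨hQa, hQb⟩, hy⟩
    let ra : Γ(X, O) := resO X (inf_le_left.trans inf_le_left) r
    let rb : Γ(X, O) := resO X (inf_le_left.trans inf_le_right) r'
    have h1 : mgerm M hO (ra • res M inf_le_right e) = mgerm M hO (rb • res M inf_le_right e) := by
      rw [mgerm_smul, mgerm_smul, mgerm_res]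
      refine Eq.trans ?_ (hab.trans ?_)
      · exact congrArg (· • mgerm M hy e) (X.presheaf.germ_res_apply _ _ _ _)
      · exact congrArg (· • mgerm M hy e) (X.presheaf.germ_res_apply _ _ _ _).symm
    obtain ⟨P, hP, i, i', hres⟩ := TopCat.Presheaf.germ_eq M.presheaf y hO hO _ _ h1
    have h2 : res M i.le (ra • res M inf_le_right e) = res M i'.le (rb • res M inf_le_right e) := hres
    rw [res_smul, res_smul, res_res] at h2
    have h3 := (he P (i.le.trans inf_le_right)).1 h2
    have h4 := congrArg (X.presheaf.germ P y hP).hom h3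
    calc X.presheaf.germ Qa y hQa r
        = X.presheaf.germ P y hP (resO X i.le ra) :=
          ((X.presheaf.germ_res_apply i y hP ra).trans (X.presheaf.germ_res_apply _ _ hO r)).symm
      _ = X.presheaf.germ P y hP (resO X i'.le rb) := h4
      _ = X.presheaf.germ Qb y hQb r' :=
          (X.presheaf.germ_res_apply i' y hP rb).trans (X.presheaf.germ_res_apply _ _ hO r')
  · obtain ⟨O, hO, t, rfl⟩ := TopCat.Presheaf.exists_germ_eq M.presheaf u
    obtain ⟨c, hc⟩ := (he (O ⊓ W) inf_le_right).2 (res M inf_le_left t)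
    refine ⟨X.presheaf.germ (O ⊓ W) y ⟨hO, hy⟩ c, ?_⟩
    have h := congrArg (mgerm M (show y ∈ O ⊓ W from ⟨hO, hy⟩)) hc
    rw [mgerm_smul, mgerm_res, mgerm_res] at h
    exact h

theorem span_eq_top_of_surjective {M : X.Modules} {y : X} {m : M.presheaf.stalk y}
    (h : Function.Surjective fun a : X.presheaf.stalk y => a • m) :
    Submodule.span (X.presheaf.stalk y) {m} = ⊤ :=
  eq_top_iff.2 fun v _ => by
    obtain ⟨a, rfl⟩ := h v
    exact Submodule.smul_mem _ _ (Submodule.mem_span_singleton_self _)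

theorem exists_smul_of_span {M : X.Modules} {y : X} {m : M.presheaf.stalk y}
    (h : Submodule.span (X.presheaf.stalk y) {m} = ⊤) (v : M.presheaf.stalk y) :
    ∃ a : X.presheaf.stalk y, a • m = v :=
  Submodule.mem_span_singleton.1 (h ▸ Submodule.mem_top)

variable [IsIntegral X]

/-- The stalk at the generic point. -/
abbrev St (M : X.Modules) : Type u := M.presheaf.stalk (genericPoint X)

theorem smul_cancel {M : X.Modules} {m : St M} (hm : m ≠ 0) {a b : X.functionField} (h : a • m = b • m) :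
    a = b := by
  have h0 : (a - b) • m = 0 := (sub_smul a b m).trans (sub_eq_zero.2 h)
  by_contra hab
  refine hm ?_
  have := congrArg ((a - b)⁻¹ • ·) h0
  simpa only [smul_smul, inv_mul_cancel₀ (sub_ne_zero.2 hab), one_smul, smul_zero] using this

theorem smul_ne_zero' {M : X.Modules} {m : St M} (hm : m ≠ 0) {a : X.functionField} (ha : a ≠ 0) :
    a • m ≠ 0 := fun h => ha (smul_cancel hm (h.trans (zero_smul _ m).symm))

/-- A coherent torsion-free module of rank one. -/
structure Lat (M : X.Modules) : Prop where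
  coh : Coh.IsCoh M
  tf : ∀ x : X, Module.IsTorsionFree (X.presheaf.stalk x) (M.presheaf.stalk x)
  gen : ∃ m : St M, m ≠ 0 ∧ ∀ v : St M, ∃ c : X.functionField, c • m = v

namespace Lat

variable {M : X.Modules}

theorem exists_smul (h : Lat M) {m : St M} (hm : m ≠ 0) (v : St M) : ∃ c : X.functionField, c • m = v := by
  obtain ⟨m₀, hm₀, hg⟩ := h.gen
  obtain ⟨a, rfl⟩ := hg m
  obtain ⟨b, rfl⟩ := hg v
  have ha : a ≠ 0 := fun e => hm (by rw [e]; exact zero_smul _ m₀)
  exact ⟨b * a⁻¹, by rw [smul_smul, inv_mul_cancel_right₀ ha]⟩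

theorem injective_msp (h : Lat M) (x : X) : Function.Injective (msp M (toGen x)) :=
  haveI := h.tf x
  msp_injective h.coh.1 x

theorem msp_ne_zero (h : Lat M) {x : X} {m : M.presheaf.stalk x} (hm : Submodule.span (X.presheaf.stalk x) {m} = ⊤) :
    msp M (toGen x) m ≠ 0 := by
  intro h0
  obtain ⟨m₀, hm₀, -⟩ := h.gen
  obtain ⟨d, c, hd, hdc⟩ := exists_mem_smul h.coh.1 (toGen x) m₀
  obtain ⟨a, rfl⟩ := exists_smul_of_span hm c
  rw [msp_smul M (toGen x) a m, h0, smul_zero] at hdc
  have hid : msp M (toGen (genericPoint X)) m₀ = m₀ := by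
    show (M.presheaf.stalkSpecializes _).hom m₀ = m₀
    rw [TopCat.Presheaf.stalkSpecializes_refl]
    rfl
  rw [hid] at hdc
  exact smul_ne_zero' hm₀ (sp_ne_zero fun e => hd (by rw [e]; exact Ideal.zero_mem _)) hdc

/-- A generator of one stalk spreads out. -/
theorem exists_isGen (h : Lat M) {x : X} {m : M.presheaf.stalk x} (hm : Submodule.span (X.presheaf.stalk x) {m} = ⊤) :
    ∃ (W : X.Opens) (hx : x ∈ W) (e : Γ(M, W)), mgerm M hx e = m ∧ IsGen e := by
  classical
  obtain ⟨W₁, hx₁, e, he⟩ := TopCat.Presheaf.exists_germ_eq M.presheaf m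
  obtain ⟨W₀, ι, hι, s, hx₀, hs⟩ := RefStalk.exists_spanning_nhd h.coh.2 x
  have hnear : ∀ i, ∃ P : X.Opens, x ∈ P ∧ ∀ (y : X) (_ : y ∈ P) (h₀ : y ∈ W₀) (h₁ : y ∈ W₁),
      ∃ a : X.presheaf.stalk y, mgerm M h₀ (s i) = a • mgerm M h₁ e := fun i => by
    obtain ⟨a, ha⟩ := exists_smul_of_span hm (mgerm M hx₀ (s i))
    obtain ⟨Q, hQ, r, rfl⟩ := TopCat.Presheaf.exists_germ_eq X.presheaf a
    have hx' : x ∈ W₀ ⊓ W₁ ⊓ Q := ⟨⟨hx₀, hx₁⟩, hQ⟩
    have h1 : mgerm M hx' (res M (inf_le_left.trans inf_le_left) (s i)) =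
        mgerm M hx' (resO X (inf_le_right : W₀ ⊓ W₁ ⊓ Q ≤ Q) r •
          res M (inf_le_left.trans inf_le_right : W₀ ⊓ W₁ ⊓ Q ≤ W₁) e) := by
      rw [mgerm_smul, mgerm_res, mgerm_res, ← ha, show mgerm M hx₁ e = m from he]
      exact congrArg (· • m) (X.presheaf.germ_res_apply _ _ _ _).symm
    obtain ⟨P, hP, i₁, i₂, hres⟩ := TopCat.Presheaf.germ_eq M.presheaf x hx' hx' _ _ h1
    refine ⟨P, hP, fun y hy h₀ h₁ => ⟨X.presheaf.germ Q y (i₁.le hy).2 r, ?_⟩⟩
    have e2 := congrArg (mgerm M hy) (show res M i₁.le (res M (inf_le_left.trans inf_le_left) (s i)) =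
      res M i₂.le (resO X (inf_le_right : W₀ ⊓ W₁ ⊓ Q ≤ Q) r •
        res M (inf_le_left.trans inf_le_right : W₀ ⊓ W₁ ⊓ Q ≤ W₁) e) from hres)
    rw [mgerm_res, mgerm_res, mgerm_res, mgerm_smul, mgerm_res] at e2
    exact e2.trans (congrArg (· • mgerm M h₁ e) (X.presheaf.germ_res_apply _ _ _ _))
  choose P hxP hP using hnear
  let W : X.Opens := W₀ ⊓ W₁ ⊓ ⟨⋂ i, (P i : Set X), isOpen_iInter_of_finite fun i => (P i).2⟩
  have hW₁ : W ≤ W₁ := inf_le_left.trans inf_le_right
  have hxW : x ∈ W := ⟨⟨hx₀, hx₁⟩, Set.mem_iInter.2 hxP⟩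
  refine ⟨W, hxW, res M hW₁ e, (mgerm_res M hW₁ hxW e).trans he, RefStalk.isGen_of_stalk fun y hy => ?_⟩
  rw [mgerm_res]
  have hne : mgerm M (hW₁ hy) e ≠ 0 := fun h0 => h.msp_ne_zero hm (by
    rw [← he]
    refine (msp_germ M (toGen x) hx₁ e).trans ?_
    refine (msp_germ M (toGen y) (hW₁ hy) e).symm.trans ?_
    rw [h0, map_zero])
  haveI := h.tf y
  refine ⟨smul_left_injective _ hne, ?_⟩
  have hsurj : Submodule.span (X.presheaf.stalk y) {mgerm M (hW₁ hy) e} = ⊤ := by
    rw [eq_top_iff, ← hs y hy.1.1, Submodule.span_le]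
    rintro _ ⟨i, rfl⟩
    obtain ⟨a, ha⟩ := hP i y (Set.mem_iInter.1 hy.2 i) hy.1.1 (hW₁ hy)
    exact Submodule.mem_span_singleton.2 ⟨a, ha.symm⟩
  exact exists_smul_of_span hsurj

/-- A generator near the generic point. -/
theorem exists_isGen_generic (h : Lat M) :
    ∃ (W : X.Opens) (_ : genericPoint X ∈ W) (e : Γ(M, W)), IsGen e := by
  obtain ⟨m, -, hg⟩ := h.gen
  obtain ⟨W, hW, e, -, he⟩ := h.exists_isGen (x := genericPoint X) (span_eq_top_of_surjective hg)
  exact ⟨W, hW, e, he⟩

variable [IsLocallyNoetherian X] (hn : Pi1.IsNormalScheme X)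

include hn in
/-- Stalks at codimension one points are free on one generator. -/
theorem exists_span (h : Lat M) {x : X} (hx : Order.coheight x = 1) :
    ∃ m : M.presheaf.stalk x, Submodule.span (X.presheaf.stalk x) {m} = ⊤ := by
  classical
  haveI := CDivNormal.isDVR hn x hx
  haveI := h.tf x
  haveI := RegDual.finite_stalk h.coh x
  haveI : Module.Free (X.presheaf.stalk x) (M.presheaf.stalk x) := Module.free_of_finite_type_torsion_free'
  let b := Module.Free.chooseBasis (X.presheaf.stalk x) (M.presheaf.stalk x)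
  have hone : ∀ i j : Module.Free.ChooseBasisIndex (X.presheaf.stalk x) (M.presheaf.stalk x), i = j := by
    intro i j
    by_contra hij
    have hj : msp M (toGen x) (b j) ≠ 0 := fun e => b.ne_zero j (h.injective_msp x (e.trans (map_zero _).symm))
    obtain ⟨c, hc⟩ := h.exists_smul hj (msp M (toGen x) (b i))
    obtain ⟨p, q, hq, rfl⟩ := IsFractionRing.div_surjective (X.presheaf.stalk x) c
    have he : q • b i = p • b j := h.injective_msp x (by
      rw [msp_smul, msp_smul, ← hc, smul_smul]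
      congr 1
      exact mul_div_cancel₀ _ (sp_ne_zero (nonZeroDivisors.ne_zero hq)))
    have h1 := congrArg (fun v => b.repr v i) he
    simp only [map_smul, Module.Basis.repr_self, Finsupp.smul_apply, Finsupp.single_eq_same,
      Finsupp.single_eq_of_ne hij, smul_eq_mul, mul_one, mul_zero] at h1
    exact nonZeroDivisors.ne_zero hq h1
  rcases isEmpty_or_nonempty (Module.Free.ChooseBasisIndex (X.presheaf.stalk x) (M.presheaf.stalk x)) with hi | ⟨⟨i⟩⟩
  · refine ⟨0, eq_top_iff.2 fun v _ => ?_⟩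
    haveI : Subsingleton (M.presheaf.stalk x) := b.repr.toEquiv.subsingleton
    rw [Subsingleton.elim v 0]
    exact zero_mem _
  · refine ⟨b i, ?_⟩
    rw [← b.span_eq]
    congr 1
    ext v
    exact ⟨fun e => ⟨i, e.symm⟩, fun ⟨j, e⟩ => by rw [← e, hone j i]; rfl⟩

omit [IsLocallyNoetherian X] in
/-- Every nonzero rational section is a nonzero multiple of a local generator. -/
theorem exists_coeff (h : Lat M) {x : X} {m : M.presheaf.stalk x}
    (hm : Submodule.span (X.presheaf.stalk x) {m} = ⊤) {s : St M} (hs : s ≠ 0) :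
    ∃ φ : X.functionField, φ ≠ 0 ∧ φ • msp M (toGen x) m = s := by
  obtain ⟨φ, hφ⟩ := h.exists_smul (h.msp_ne_zero hm) s
  exact ⟨φ, fun e => hs (by rw [← hφ, e]; exact zero_smul _ _), hφ⟩

omit [IsLocallyNoetherian X] in
theorem mk_injective (M : X.Modules) {v w : St M}
    (h : (Submodule.Quotient.mk v : Cyc.secFibre M (genericPoint X)) = Submodule.Quotient.mk w) : v = w := by
  have hbot : IsLocalRing.maximalIdeal (X.presheaf.stalk (genericPoint X)) = ⊥ :=
    IsLocalRing.maximalIdeal_eq_bot (R := X.functionField)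
  have := (Submodule.Quotient.eq _).1 h
  rw [hbot, Submodule.bot_smul, Submodule.mem_bot, sub_eq_zero] at this
  exact this

omit hn in
/-- The order of a rational section computed with any generator. -/
theorem secOrdAt_mk (h : Lat M) {x : X} (hx : Order.coheight x = 1) {m : M.presheaf.stalk x}
    (hm : Submodule.span (X.presheaf.stalk x) {m} = ⊤) {φ : X.functionField} (hφ : φ ≠ 0) {s : St M}
    (hs : φ • msp M (toGen x) m = s) :
    Cyc.secOrdAt M (genericPoint X) x (toGen x) (Submodule.Quotient.mk s) = Scheme.ord φ x := by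
  classical
  have ht : ∃ t : M.presheaf.stalk x, Submodule.span (X.presheaf.stalk x) {t} = ⊤ := ⟨m, hm⟩
  obtain ⟨t, ht', htd⟩ : ∃ t, Submodule.span (X.presheaf.stalk x) {t} = ⊤ ∧ Classical.choose ht = t :=
    ⟨_, Classical.choose_spec ht, rfl⟩
  obtain ⟨v, hv⟩ := exists_smul_of_span ht' m
  have hvu : IsUnit v := by
    obtain ⟨w, hw⟩ := exists_smul_of_span hm t
    haveI := h.tf x
    have hm0 : t ≠ 0 := fun e => h.msp_ne_zero ht' (by rw [e, map_zero])
    refine IsUnit.of_mul_eq_one_right w (smul_left_injective _ hm0 ?_)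
    show (w * v) • t = (1 : X.presheaf.stalk x) • t
    rw [mul_smul, hv, hw, one_smul]
  have hst : (φ * sp x v) • msp M (toGen x) t = s := by
    rw [mul_smul, ← hs]
    exact congrArg (φ • ·) ((msp_smul M (toGen x) v t).symm.trans (congrArg _ hv))
  have hex : ∃ ψ : X.presheaf.stalk (genericPoint X),
      (Submodule.Quotient.mk s : Cyc.secFibre M (genericPoint X)) = ψ • (Submodule.Quotient.mk
        ((M.presheaf.stalkSpecializes (toGen x)) (Classical.choose ht)) : Cyc.secFibre M (genericPoint X)) :=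
    ⟨φ * sp x v, by rw [htd, ← Submodule.Quotient.mk_smul]; exact congrArg _ hst.symm⟩
  rw [Cyc.secOrdAt, dif_pos ht, dif_pos hex]
  have hc : Classical.choose hex = φ * sp x v := by
    have h1 := mk_injective M ((Classical.choose_spec hex).trans (Submodule.Quotient.mk_smul _ _ _).symm)
    refine (smul_cancel (h.msp_ne_zero ht') ((hst.trans h1).trans ?_)).symm
    exact congrArg (fun z => Classical.choose hex • msp M (toGen x) z) htd
  rw [hc]
  refine (ordAt_residue hx (mul_ne_zero hφ (sp_ne_zero hvu.ne_zero))).trans ?_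
  rw [Scheme.ord_mul hφ (sp_ne_zero hvu.ne_zero), ord_sp_isUnit hx hvu, add_zero]

end Lat

variable [IsLocallyNoetherian X] {M : X.Modules}

/-- A rank one reflexive module is a lattice. -/
theorem lat_of_isRef1 (hM : RefHull.IsRef1 M) : Lat M := by
  obtain ⟨hc, hr, hg⟩ := hM
  refine ⟨hc, fun x => ?_, ?_⟩
  · haveI : Module.IsReflexive (X.presheaf.stalk x) (M.presheaf.stalk x) := (RefStalk.isReflexive_iff hc).1 hr x
    exact RefStalk.isTorsionFree_of_isReflexive _
  · obtain ⟨U, hUd, hUi⟩ := hg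
    obtain ⟨η', hη'⟩ := hUd.nonempty
    obtain ⟨A, a, hA, ha⟩ := TMul.exists_isGen hUi (⟨η', hη'⟩ : (U : Scheme.{u}))
    let e : Γ(M, U.ι ''ᵁ A) := a
    have he : IsGen e := S16491.isGen_of_restrict ha
    have hη : genericPoint X ∈ U.ι ''ᵁ A :=
      (toGen η').mem_open (U.ι ''ᵁ A).2 ⟨⟨η', hη'⟩, hA, rfl⟩
    have hb := bijective_germ_of_isGen he hη
    exact ⟨mgerm M hη e, fun h0 => zero_ne_one (α := X.functionField)
      (hb.1 (show (0 : X.functionField) • mgerm M hη e = (1 : X.functionField) • mgerm M hη e by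
        rw [h0, smul_zero, smul_zero])), hb.2⟩

/-- A lattice with reflexive stalks is a rank one reflexive module. -/
theorem Lat.isRef1 (h : Lat M) (hr : ∀ x : X, Module.IsReflexive (X.presheaf.stalk x) (M.presheaf.stalk x)) :
    RefHull.IsRef1 M := by
  obtain ⟨W, hW, e, he⟩ := h.exists_isGen_generic
  exact ⟨h.coh, (RefStalk.isReflexive_iff h.coh).2 hr, W, W.2.dense ⟨_, hW⟩,
    InvGen.isInvertible_restrict (j := W.ι) fun y => ⟨W, e, y.2, he⟩⟩

end Groth.Agent.RefDiv
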