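import Groth.Agent.RefDiv.Ops
import Groth.Agent.WeakAssLib.Stalk
import Groth.Agent.WeakAssLib.Struct
import Mathlib

/-!
The ideal sheaf of functions vanishing to prescribed orders along finitely many (locally) codimension one points.
-/

set_option autoImplicit false
set_option linter.style.haveILetI false
set_option backward.isDefEq.respectTransparency false

universe u

open CategoryTheory CategoryTheory.Limits AlgebraicGeometry TopologicalSpace Opposite IsLocalRing
open Groth.Agent.QC (res resO res_res res_smul app_res app_injective_of_mono)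
open Groth.Agent.WeakAssLib (mgerm mgerm_smul mgerm_res)
open Groth.Agent.RefStalk (msp msp_smul stalkMap_msp toGen)

noncomputable section

namespace Groth.Agent.RefDiv

variable {X : Scheme.{u}}

theorem mgerm_struct {U : X.Opens} {x : X} (hx : x ∈ U) (r : Γ(X, U)) :
    mgerm (Coh.structureModule X) hx (r : Γ(Coh.structureModule X, U)) =
      (X.presheaf.germ U x hx).hom r • oneM x := by
  rw [oneM, ← mgerm_res (Coh.structureModule X) (le_top : U ≤ ⊤) hx, ← mgerm_smul]
  congr 1
  show r = r * resO X (le_top : U ≤ ⊤) 1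
  rw [map_one, mul_one]

/-- Functions vanishing to order `E` at the codimension one points. -/
def idealSub (E : X → ℕ) : QC.Sub (Coh.structureModule X) where
  obj O :=
    { carrier := {a | ∀ (x : X) (hx : x ∈ O), Order.coheight x = 1 →
        (X.presheaf.germ O x hx).hom (a : Γ(X, O)) ∈ maximalIdeal (X.presheaf.stalk x) ^ E x}
      zero_mem' := fun x hx _ => by
        rw [show ((X.presheaf.germ O x hx).hom ((0 : Γ(Coh.structureModule X, O)) : Γ(X, O))) = 0 from map_zero _]
        exact Ideal.zero_mem _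
      add_mem' := fun {a b} ha hb x hx h1 => by
        show (X.presheaf.germ O x hx).hom ((a : Γ(X, O)) + (b : Γ(X, O))) ∈ _
        rw [map_add]
        exact Ideal.add_mem _ (ha x hx h1) (hb x hx h1)
      smul_mem' := fun r a ha x hx h1 => by
        show (X.presheaf.germ O x hx).hom (r * (show Γ(X, O) from a)) ∈ _
        rw [map_mul]
        exact Ideal.mul_mem_left _ _ (ha x hx h1) }
  res_mem := fun {O' O} h {s} hs x hx h1 => by
    show (X.presheaf.germ O' x hx).hom (resO X h s) ∈ _
    rw [show (X.presheaf.germ O' x hx).hom (resO X h s) = (X.presheaf.germ O x (h hx)).hom (s : Γ(X, O)) from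
      X.presheaf.germ_res_apply _ _ _ _]
    exact hs x (h hx) h1
  local' := fun {O} s h x hx h1 => by
    obtain ⟨W, hW, hxW, hm⟩ := h x hx
    have := hm x hxW h1
    rwa [show (X.presheaf.germ W x hxW).hom (res (Coh.structureModule X) hW s : Γ(X, W)) =
      (X.presheaf.germ O x hx).hom (s : Γ(X, O)) from X.presheaf.germ_res_apply _ _ _ _] at this

/-- The ideal sheaf. -/
abbrev idl (E : X → ℕ) : X.Modules := (idealSub E).toModules

/-- Local finiteness of the support of `E`. -/
def FinSupp (E : X → ℕ) : Prop :=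
  ∀ U : X.Opens, IsAffineOpen U → {x : X | x ∈ U ∧ Order.coheight x = 1 ∧ E x ≠ 0}.Finite

theorem isLoc_idl {E : X → ℕ} (hE : FinSupp E) {U : X.Opens} (hU : IsAffineOpen U) : QC.IsLoc (idl E) U := by
  have hL := WeakAssLib.isLoc_struct hU
  let ι := (idealSub E).ι
  refine ⟨fun f t => ?_, fun f s hs => ?_⟩
  · obtain ⟨n, s, hs⟩ := hL.exists_extend f (ι.app _ t)
    let T := (hE U hU).toFinset
    let N := ∑ x ∈ T, E x
    have hmem : f ^ N • s ∈ (idealSub E).obj U := fun x hx h1 => by
      show (X.presheaf.germ U x hx).hom (f ^ N * (show Γ(X, U) from s)) ∈ _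
      rw [map_mul, map_pow]
      by_cases hf : x ∈ X.basicOpen f
      · refine Ideal.mul_mem_left _ _ ?_
        have ht : (X.presheaf.germ (X.basicOpen f) x hf).hom (ι.app _ t : Γ(X, X.basicOpen f)) ∈
            maximalIdeal (X.presheaf.stalk x) ^ E x :=
          ((idealSub E).range_ι_app _ _).1 ⟨t, rfl⟩ x hf h1
        have e := congrArg (fun a : Γ(X, X.basicOpen f) => (X.presheaf.germ (X.basicOpen f) x hf).hom a) hs
        have e1 : (X.presheaf.germ U x hx).hom (s : Γ(X, U)) = (X.presheaf.germ (X.basicOpen f) x hf).hom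
            ((resO X (X.basicOpen_le f) f) ^ n * (show Γ(X, X.basicOpen f) from ι.app _ t)) :=
          ((X.presheaf.germ_res_apply (homOfLE (X.basicOpen_le f)) x hf s).symm.trans e)
        rw [e1, map_mul]
        exact Ideal.mul_mem_left _ _ ht
      · refine Ideal.mul_mem_right _ _ (Ideal.pow_le_pow_right ?_ (Ideal.pow_mem_pow ?_ N))
        · by_cases h0 : E x = 0
          · rw [h0]; exact Nat.zero_le _
          · exact Finset.single_le_sum (fun y _ => Nat.zero_le (E y))
              ((hE U hU).mem_toFinset.2 ⟨hx, h1, h0⟩)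
        · exact (mem_maximalIdeal _).2 fun hu => hf ((X.mem_basicOpen f x hx).2 hu)
    obtain ⟨σ, hσ⟩ := ((idealSub E).range_ι_app _ _).2 hmem
    refine ⟨N + n, σ, (idealSub E).ι_app_injective _ ?_⟩
    rw [Scheme.Modules.Hom.app_smul, ← app_res, hσ, res_smul, hs, smul_smul, map_pow, pow_add]
  · have h0 : res (Coh.structureModule X) (X.basicOpen_le f) (ι.app _ s) = 0 := by rw [app_res, hs, map_zero]
    obtain ⟨n, hn⟩ := hL.exists_pow_smul_eq_zero f _ h0
    refine ⟨n, (idealSub E).ι_app_injective _ ?_⟩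
    rw [Scheme.Modules.Hom.app_smul, hn, map_zero]

theorem isCoh_idl [IsLocallyNoetherian X] {E : X → ℕ} (hE : FinSupp E) : Coh.IsCoh (idl E) := by
  refine QC.isCoh_of_mono (idealSub E).ι RefStalk.isCoh_structureModule (QC.isQCoh_of_isLoc fun x => ?_)
  obtain ⟨U, hU, hxU, -⟩ := exists_isAffineOpen_mem_and_subset (x := x) (U := (⊤ : X.Opens)) trivial
  exact ⟨U, hU, hxU, isLoc_idl hE hU⟩

theorem injective_stalk_ι (E : X → ℕ) (x : X) :
    Function.Injective (RefHull.stalkMapₗ (idealSub E).ι x) :=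
  WeakAssLib.stalkHom_injective (idealSub E).ι x

theorem exists_coeff_ι (E : X → ℕ) {x : X} (v : (idl E).presheaf.stalk x) :
    ∃ a : X.presheaf.stalk x, (Order.coheight x = 1 → a ∈ maximalIdeal (X.presheaf.stalk x) ^ E x) ∧
      RefHull.stalkMapₗ (idealSub E).ι x v = a • oneM x := by
  obtain ⟨O, hO, σ, rfl⟩ := TopCat.Presheaf.exists_germ_eq (idl E).presheaf v
  refine ⟨(X.presheaf.germ O x hO).hom ((idealSub E).ι.app O σ : Γ(X, O)),
    fun h1 => ((idealSub E).range_ι_app _ _).1 ⟨σ, rfl⟩ x hO h1, ?_⟩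
  rw [RefHull.stalkMapₗ_germ]
  exact mgerm_struct hO _

variable [IsIntegral X]

theorem coheight_genericPoint : Order.coheight (genericPoint X) = 0 :=
  Order.coheight_eq_zero.2 fun y _ => toGen y

variable [IsLocallyNoetherian X]

/-- Elements of the prescribed order come from sections of the ideal sheaf. -/
theorem exists_section_idl {E : X → ℕ} (hE : FinSupp E) {x : X}
    (hx : Order.coheight x = 1 ∨ x = genericPoint X) {a : X.presheaf.stalk x}
    (ha : Order.coheight x = 1 → a ∈ maximalIdeal (X.presheaf.stalk x) ^ E x) :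
    ∃ v : (idl E).presheaf.stalk x, RefHull.stalkMapₗ (idealSub E).ι x v = a • oneM x := by
  obtain ⟨O, hxO, r, rfl⟩ := TopCat.Presheaf.exists_germ_eq X.presheaf a
  obtain ⟨U, hU, hxU, hUO⟩ := exists_isAffineOpen_mem_and_subset (x := x) (U := O) hxO
  let T : Set X := {y : X | y ∈ U ∧ Order.coheight y = 1 ∧ E y ≠ 0} \ {x}
  have hT : T.Finite := (hE U hU).subset Set.diff_subset
  let C : Set X := ⋃ y ∈ T, closure {y}
  have hC : IsClosed C := hT.isClosed_biUnion fun y _ => isClosed_closure
  let V : X.Opens := U ⊓ ⟨Cᶜ, hC.isOpen_compl⟩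
  have hxV : x ∈ V := ⟨hxU, fun hc => by
    obtain ⟨y, hy, hyx⟩ := Set.mem_iUnion₂.1 hc
    have hyx' : y ⤳ x := specializes_iff_mem_closure.2 hyx
    have hy1 : Order.coheight y = 1 := hy.1.2.1
    rcases hx with hx | rfl
    · rcases DivOrd.eq_or_eq_genericPoint hx hyx' with rfl | rfl
      · exact hy.2 rfl
      · rw [coheight_genericPoint] at hy1; exact zero_ne_one hy1
    · rw [(hyx'.antisymm (toGen y)).eq, coheight_genericPoint] at hy1
      exact zero_ne_one hy1⟩
  let r' : Γ(Coh.structureModule X, V) := resO X (inf_le_left.trans hUO : V ≤ O) r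
  have hg : ∀ (y : X) (hy : y ∈ V), (X.presheaf.germ V y hy).hom (r' : Γ(X, V)) =
      (X.presheaf.germ O y (hUO hy.1)).hom r := fun y hy => X.presheaf.germ_res_apply _ _ _ _
  have hmem : r' ∈ (idealSub E).obj V := fun y hy hy1 => by
    rw [hg y hy]
    by_cases hyx : y = x
    · subst hyx; exact ha hy1
    · have h0 : E y = 0 := by
        by_contra h0
        exact hy.2 (Set.mem_iUnion₂.2 ⟨y, ⟨⟨hy.1, hy1, h0⟩, hyx⟩, subset_closure rfl⟩)
      rw [h0, pow_zero, Ideal.one_eq_top]
      exact Submodule.mem_top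
  obtain ⟨σ, hσ⟩ := ((idealSub E).range_ι_app _ _).2 hmem
  refine ⟨mgerm (idl E) hxV σ, ?_⟩
  rw [show RefHull.stalkMapₗ (idealSub E).ι x (mgerm (idl E) hxV σ) =
    mgerm (Coh.structureModule X) hxV ((idealSub E).ι.app V σ) from RefHull.stalkMapₗ_germ _ x hxV σ, hσ]
  exact (mgerm_struct hxV r').trans (congrArg (· • oneM x) (hg x hxV))

theorem lat_idl {E : X → ℕ} (hE : FinSupp E) : Lat (idl E) := by
  refine ⟨isCoh_idl hE, fun x => ?_, ?_⟩
  · haveI := (lat_structureModule (X := X)).tf x
    exact (injective_stalk_ι E x).moduleIsTorsionFree _ (map_smul _)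
  · obtain ⟨v, hv⟩ := exists_section_idl hE (Or.inr rfl) (a := 1) (fun h => by
      rw [coheight_genericPoint] at h; exact absurd h zero_ne_one)
    rw [one_smul] at hv
    refine ⟨v, fun h => oneM_ne_zero (by rw [← hv, h, map_zero]), fun w => ?_⟩
    obtain ⟨c, -, hc⟩ := exists_coeff_ι E w
    exact ⟨c, injective_stalk_ι E _ (by rw [map_smul, hv, hc])⟩

theorem hasDiv_idl (hn : Pi1.IsNormalScheme X) {E : X → ℕ} (hE : FinSupp E) :
    HasDiv (idl E) fun x => - (E x : ℤ) := by
  obtain ⟨v, hv⟩ := exists_section_idl hE (Or.inr rfl) (a := 1) (fun h => by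
    rw [coheight_genericPoint] at h; exact absurd h zero_ne_one)
  rw [one_smul] at hv
  refine ⟨v, fun h => oneM_ne_zero (by rw [← hv, h, map_zero]), fun x hx => ?_⟩
  haveI := CDivNormal.isDVR hn x hx
  haveI : Ring.KrullDimLE 1 (X.presheaf.stalk x) := krullDimLE_of_coheight_le hx.le
  obtain ⟨π, hπ⟩ := IsDiscreteValuationRing.exists_irreducible (X.presheaf.stalk x)
  have hm : maximalIdeal (X.presheaf.stalk x) ^ E x = Ideal.span {π ^ E x} := by
    rw [hπ.maximalIdeal_eq, Ideal.span_singleton_pow]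
  obtain ⟨σ, hσ⟩ := exists_section_idl hE (Or.inl hx) (a := π ^ E x)
    (fun _ => by rw [hm]; exact Ideal.mem_span_singleton_self _)
  have hsp : Submodule.span (X.presheaf.stalk x) {σ} = ⊤ := span_eq_top_of_surjective fun w => by
    obtain ⟨b, hb, hbw⟩ := exists_coeff_ι E w
    obtain ⟨c, rfl⟩ := Ideal.mem_span_singleton'.1 (hm ▸ hb hx)
    exact ⟨c, injective_stalk_ι E x (by rw [map_smul, hσ, hbw, smul_smul])⟩
  have hne : sp x π ^ E x ≠ 0 := pow_ne_zero _ (sp_ne_zero hπ.ne_zero)
  have hord : ∀ k : ℕ, Scheme.ord (sp x π ^ k) x = k := fun k => by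
    induction k with
    | zero => rw [pow_zero, ord_one]; rfl
    | succ k ih =>
      have h1 : Scheme.ord (sp x π) x = 1 :=
        (Scheme.ord_eq_iff hx (sp_ne_zero hπ.ne_zero)).2 (Ring.ordFrac_irreducible hπ)
      rw [pow_succ, Scheme.ord_mul (pow_ne_zero k (sp_ne_zero hπ.ne_zero)) (sp_ne_zero hπ.ne_zero), ih, h1]
      push_cast
      rfl
  rw [dv, (lat_idl hE).secOrdAt_mk hx hsp (inv_ne_zero hne) ?_, ord_inv hne, hord]
  refine injective_stalk_ι E _ ?_
  rw [map_smul, stalkMap_msp, hσ, msp_smul, msp_oneM, hv,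
    show (X.presheaf.stalkSpecializes (toGen x)).hom (π ^ E x) = sp x π ^ E x from map_pow _ _ _, smul_smul,
    inv_mul_cancel₀ hne, one_smul]

end Groth.Agent.RefDiv
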