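import Groth.Agent.CDivNormal.Primes
import Groth.Agent.RefStalk.Generic
import Groth.Prelude.Def_C1
import Groth.Prelude.Def_Tame
import Mathlib

/-!
Orders along codimension one points of a normal scheme: the order of a residue class at the generic point is
the order of vanishing of the rational function.
-/

set_option autoImplicit false
set_option linter.style.haveILetI false
set_option backward.isDefEq.respectTransparency false

universe u

open CategoryTheory AlgebraicGeometry TopologicalSpace
open Groth.Agent.RefStalk (toGen stalkSpecializes_injective)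

noncomputable section

namespace Groth.Agent.RefDiv

/-- The order of an element does not change along a ring isomorphism. -/
theorem ord_ringEquiv {R S : Type*} [CommRing R] [CommRing S] (e : R ≃+* S) (a : R) :
    Ring.ord S (e a) = Ring.ord R a := by
  apply WithBot.coe_injective
  rw [Ring.ord, Ring.ord, Module.coe_length, Module.coe_length,
    Order.krullDim_eq_of_orderIso (Submodule.comapMkQRelIso _),
    Order.krullDim_eq_of_orderIso (Submodule.comapMkQRelIso (Ideal.span {a}))]
  let f := e.idealComapOrderIso
  have h : f (Ideal.span {e a}) = Ideal.span {a} := by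
    show (Ideal.span {e a}).comap e = Ideal.span {a}
    rw [← Ideal.comap_coe e, show Ideal.span {e a} = (Ideal.span {a}).map (e : R →+* S) by
      rw [Ideal.map_span, Set.image_singleton]; rfl]
    exact Ideal.comap_map_of_bijective _ e.bijective
  exact Order.krullDim_eq_of_orderIso
    { toEquiv := f.toEquiv.subtypeEquiv fun I => f.le_iff_le.symm.trans (by rw [h]; rfl)
      map_rel_iff' := f.le_iff_le }

variable {X : Scheme.{u}} [IsIntegral X]

/-- An element of a local ring as a rational function. -/
abbrev sp (x : X) : X.presheaf.stalk x →+* X.functionField :=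
  (X.presheaf.stalkSpecializes (toGen x)).hom

theorem sp_injective (x : X) : Function.Injective (sp x) := stalkSpecializes_injective x

theorem sp_ne_zero {x : X} {a : X.presheaf.stalk x} (ha : a ≠ 0) : sp x a ≠ 0 :=
  fun h => ha (sp_injective x (h.trans (map_zero _).symm))

theorem residue_ne_zero {φ : X.functionField} (h : φ ≠ 0) :
    (X.residue (genericPoint X)).hom φ ≠ 0 :=
  (map_ne_zero (X.residue (genericPoint X)).hom).2 h

variable [IsLocallyNoetherian X]

theorem ord_one (x : X) : Scheme.ord (1 : X.functionField) x = 0 := by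
  have h := Scheme.ord_mul (x := x) (one_ne_zero (α := X.functionField)) one_ne_zero
  rw [one_mul] at h
  omega

theorem ord_inv {φ : X.functionField} (h : φ ≠ 0) (x : X) : Scheme.ord φ⁻¹ x = - Scheme.ord φ x := by
  have h1 := Scheme.ord_mul (x := x) h (inv_ne_zero h)
  rw [mul_inv_cancel₀ h, ord_one] at h1
  omega

theorem ord_sp_isUnit {x : X} (hx : Order.coheight x = 1) {a : X.presheaf.stalk x} (ha : IsUnit a) :
    Scheme.ord (sp x a) x = 0 := by
  haveI : Ring.KrullDimLE 1 (X.presheaf.stalk x) := krullDimLE_of_coheight_le hx.le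
  exact (Scheme.ord_eq_iff hx (sp_ne_zero ha.ne_zero)).2
    ((Ring.ordFrac_of_isUnit (R := X.presheaf.stalk x) (K := X.functionField) ha).trans rfl)

variable (hn : Pi1.IsNormalScheme X)
include hn

/-- A nonzero rational function is regular at `x` exactly when its order is not negative. -/
theorem ord_nonneg_iff {x : X} (hx : Order.coheight x = 1) {φ : X.functionField} (hφ : φ ≠ 0) :
    0 ≤ Scheme.ord φ x ↔ ∃ r, sp x r = φ :=
  CDivNormal.ord_nonneg_iff hn (Units.mk0 φ hφ) x hx

/-- Every integer is an order. -/
theorem exists_ord_eq {x : X} (hx : Order.coheight x = 1) (n : ℤ) :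
    ∃ φ : X.functionField, φ ≠ 0 ∧ Scheme.ord φ x = n := by
  haveI := CDivNormal.isDVR hn x hx
  haveI : Ring.KrullDimLE 1 (X.presheaf.stalk x) := krullDimLE_of_coheight_le hx.le
  obtain ⟨π, hπ⟩ := IsDiscreteValuationRing.exists_irreducible (X.presheaf.stalk x)
  have h0 : sp x π ≠ 0 := sp_ne_zero hπ.ne_zero
  refine ⟨sp x π ^ n, zpow_ne_zero n h0, ?_⟩
  have h1 : Scheme.ord (sp x π) x = 1 := (Scheme.ord_eq_iff hx h0).2 (Ring.ordFrac_irreducible hπ)
  have hnat : ∀ k : ℕ, Scheme.ord (sp x π ^ k) x = k := fun k => by
    induction k with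
    | zero => rw [pow_zero, ord_one]; rfl
    | succ k ih => rw [pow_succ, Scheme.ord_mul (pow_ne_zero k h0) h0, ih, h1]; push_cast; rfl
  cases n with
  | ofNat k => rw [Int.ofNat_eq_natCast, zpow_natCast, hnat]
  | negSucc k => rw [zpow_negSucc, ord_inv (pow_ne_zero _ h0), hnat]; omega

omit hn in
/-- The order along `x` of the residue class of a rational function is its order of vanishing. -/
theorem ordAt_residue {x : X} (hx : Order.coheight x = 1) {φ : X.functionField} (hφ : φ ≠ 0) :
    Cyc.ordAt x (genericPoint X) (toGen x) ((X.residue (genericPoint X)).hom φ) = Scheme.ord φ x := by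
  classical
  let η := genericPoint X
  let R := X.presheaf.stalk x
  let res : X.functionField →+* X.residueField η := (X.residue η).hom
  haveI : Ring.KrullDimLE 1 R := krullDimLE_of_coheight_le hx.le
  have hker : RingHom.ker (Cyc.specMap x η (toGen x)) = ⊥ :=
    (RingHom.injective_iff_ker_eq_bot _).1 (res.injective.comp (sp_injective x))
  let Q := Cyc.LocQuot x η (toGen x)
  let e : R ≃+* Q := RingEquiv.ofBijective (Ideal.Quotient.mk _)
    ⟨(RingHom.injective_iff_ker_eq_bot _).2 (by rw [Ideal.mk_ker, hker]), Ideal.Quotient.mk_surjective⟩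
  have halg : ∀ a : R, algebraMap Q (X.residueField η) (e a) = res (sp x a) := fun _ => rfl
  haveI : IsDomain Q := e.toMulEquiv.symm.isDomain R
  haveI : FaithfulSMul Q (X.residueField η) := (faithfulSMul_iff_algebraMap_injective _ _).2 fun a b h => by
    obtain ⟨a, rfl⟩ := e.surjective a
    obtain ⟨b, rfl⟩ := e.surjective b
    rw [halg, halg] at h
    rw [sp_injective x (res.injective h)]
  haveI : IsFractionRing Q (X.residueField η) := IsFractionRing.of_field _ _ fun z => by
    obtain ⟨w, rfl⟩ : ∃ w, res w = z := Ideal.Quotient.mk_surjective z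
    obtain ⟨a, b, -, rfl⟩ := IsFractionRing.div_surjective (X.presheaf.stalk x) w
    exact ⟨e a, e b, map_div₀ res _ _⟩
  have hQ : IsNoetherianRing Q ∧ Ring.KrullDimLE 1 Q ∧ Nontrivial Q ∧ IsFractionRing Q (X.residueField η) :=
    ⟨inferInstance, Ring.krullDimLE_iff.2
      ((ringKrullDim_eq_of_ringEquiv e).symm.le.trans (Ring.krullDimLE_iff.1 ‹Ring.KrullDimLE 1 R›)),
      inferInstance, inferInstance⟩
  haveI := hQ.2.1
  have key : ∀ a : R, a ≠ 0 →
      Ring.ordFrac Q (res (sp x a)) = Ring.ordFrac R (sp x a) := fun a ha => by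
    have hea : e a ≠ 0 := fun h => ha (e.injective (h.trans (map_zero e).symm))
    rw [← halg, Ring.ordFrac_eq_ord Q hea]
    refine Eq.trans ?_ (Ring.ordFrac_eq_ord R (K := X.functionField) ha).symm
    rw [Ring.ordMonoidWithZeroHom_eq_ord (mem_nonZeroDivisors_of_ne_zero hea),
      Ring.ordMonoidWithZeroHom_eq_ord (mem_nonZeroDivisors_of_ne_zero ha), ord_ringEquiv]
  have hfrac : Ring.ordFrac Q (res φ) = Ring.ordFrac R φ := by
    obtain ⟨a, b, hb, hab⟩ := IsFractionRing.div_surjective R φ
    have hb0 : b ≠ 0 := nonZeroDivisors.ne_zero hb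
    have ha0 : a ≠ 0 := fun h => hφ (by rw [← hab, h, map_zero, zero_div])
    rw [← hab, map_div₀, map_div₀, map_div₀]
    exact congrArg₂ (· / ·) (key a ha0) (key b hb0)
  have hord : Ring.ordFrac R φ = Multiplicative.ofAdd (Scheme.ord φ x) := (Scheme.ord_eq_iff hx hφ).1 rfl
  show CycAlg.ordFrac Q (X.residueField η) (res φ) = _
  rw [CycAlg.ordFrac, dif_pos hQ]
  change WithZero.recZeroCoe (motive := fun _ => ℤ) 0 _ (Ring.ordFrac Q (res φ)) = _
  rw [hfrac, hord]
  rfl

end Groth.Agent.RefDiv
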