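import Groth.Agent.RefDiv.Ops
import Groth.Agent.TMul.AmpleBasis
import Groth.Agent.TMul.GlobGen
import Mathlib

/-!
Invertible modules as lattices.
-/

set_option autoImplicit false
set_option linter.style.haveILetI false
set_option backward.isDefEq.respectTransparency false

universe u

open CategoryTheory CategoryTheory.Limits AlgebraicGeometry TopologicalSpace Opposite
open Groth.Agent.WeakAssLib (mgerm)
open Groth.Agent.RefStalk (toGen msp msp_germ stalkMap_msp)
open TMul (IsGen)

noncomputable section

namespace Groth.Agent.RefDiv

variable {X : Scheme.{u}}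

theorem exists_gen_of_isInvertible {L : X.Modules} (hL : PicF.IsInvertible L) (x : X) :
    ∃ m : L.presheaf.stalk x, Function.Bijective fun a : X.presheaf.stalk x => a • m := by
  obtain ⟨A, e, hx, he⟩ := TMul.exists_isGen hL x
  exact ⟨mgerm L hx e, bijective_germ_of_isGen he hx⟩

theorem reflexive_of_isInvertible {L : X.Modules} (hL : PicF.IsInvertible L) (x : X) :
    Module.IsReflexive (X.presheaf.stalk x) (L.presheaf.stalk x) := by
  obtain ⟨m, hm⟩ := exists_gen_of_isInvertible hL x
  let e := LinearEquiv.ofBijective (LinearMap.toSpanSingleton (X.presheaf.stalk x) (L.presheaf.stalk x) m) hm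
  exact Module.IsReflexive.of_split e.symm.toLinearMap e.toLinearMap (LinearMap.ext e.apply_symm_apply)

variable [IsIntegral X]

theorem lat_of_isInvertible {L : X.Modules} (hL : PicF.IsInvertible L) : Lat L := by
  refine ⟨⟨TMul.isQCoh_of_isInvertible hL, TMul.isFT_of_isInvertible hL⟩, fun x => ?_, ?_⟩
  · haveI := reflexive_of_isInvertible hL x
    exact RefStalk.isTorsionFree_of_isReflexive _
  · obtain ⟨m, hm⟩ := exists_gen_of_isInvertible hL (genericPoint X)
    exact ⟨m, fun h => zero_ne_one (α := X.functionField)
      (hm.1 (show (0 : X.functionField) • m = (1 : X.functionField) • m by rw [h, smul_zero, smul_zero])), hm.2⟩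

theorem isRef1_of_isInvertible [IsLocallyNoetherian X] {L : X.Modules} (hL : PicF.IsInvertible L) :
    RefHull.IsRef1 L :=
  (lat_of_isInvertible hL).isRef1 (reflexive_of_isInvertible hL)

end Groth.Agent.RefDiv
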