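import Groth.Agent.RefDiv.Lat
import Groth.Agent.RefStalk.Dual
import Groth.Agent.S2297
import Groth.Agent.S16083
import Mathlib

/-!
Divisors of rational sections: structure module, dual, reflexive tensor product, isomorphism criterion.
-/

set_option autoImplicit false
set_option linter.style.haveILetI false
set_option backward.isDefEq.respectTransparency false

universe u

open CategoryTheory CategoryTheory.Limits AlgebraicGeometry TopologicalSpace Opposite
open Groth.Agent.QC (res resO res_res res_smul)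
open Groth.Agent.WeakAssLib (mgerm mgerm_smul mgerm_res)
open Groth.Agent.RefStalk (msp msp_germ msp_smul msp_msp stalkMap_msp toGen)
open TMul (IsGen tm res_tm smul_tm tm_smul isGen_tm)

noncomputable section

namespace Groth.Agent.RefDiv

variable {X : Scheme.{u}}

theorem smul_mgerm_res {M : X.Modules} {U V : X.Opens} (h : V ≤ U) {x : X} (hx : x ∈ V) (r : Γ(X, V))
    (s : Γ(M, U)) : mgerm M hx (r • res M h s) = (X.presheaf.germ V x hx).hom r • mgerm M (h hx) s := by
  rw [mgerm_smul, mgerm_res]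

/-- Evaluation commutes with specialisation. -/
theorem eval_msp (F G : X.Modules) {x y : X} (h : x ⤳ y) (θ : (RefHull.homSh F G).presheaf.stalk y)
    (v : F.presheaf.stalk y) :
    RefHull.evalStalk F G x (msp _ h θ) (msp F h v) = msp G h (RefHull.evalStalk F G y θ v) := by
  obtain ⟨U, hU, g, rfl⟩ := TopCat.Presheaf.exists_germ_eq (RefHull.homSh F G).presheaf θ
  obtain ⟨V, hV, m, rfl⟩ := TopCat.Presheaf.exists_germ_eq F.presheaf v
  obtain ⟨W, hW, j, n, hn⟩ := RefHull.isLocSect_of_mem g (U ⊓ V) (homOfLE inf_le_left)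
    (F.presheaf.map (homOfLE (inf_le_right : U ⊓ V ≤ V)).op m) ⟨y, hU, hV⟩
  have hxW : x ∈ W := h.mem_open W.2 hW
  have hy := hn ⟨y, hW⟩
  have hx := hn ⟨x, hxW⟩
  rw [TopCat.Presheaf.germ_res_apply] at hx hy
  have e1 : msp (RefHull.homSh F G) h ((RefHull.homSh F G).presheaf.germ U y hU g) =
      (RefHull.homSh F G).presheaf.germ U x (h.mem_open U.2 hU) g := msp_germ _ h hU g
  have e2 : msp F h (F.presheaf.germ V y hV m) = F.presheaf.germ V x (h.mem_open V.2 hV) m := msp_germ _ h hV m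
  rw [e1, e2, RefHull.evalStalk_germ, RefHull.evalStalk_germ]
  exact hx.trans ((msp_germ G h hW n).symm.trans (congrArg (msp G h) hy.symm))

/-- The unit germ of the structure module. -/
def oneM (x : X) : (Coh.structureModule X).presheaf.stalk x :=
  mgerm (Coh.structureModule X) (show x ∈ (⊤ : X.Opens) from trivial) (1 : Γ(X, (⊤ : X.Opens)))

theorem msp_oneM {x y : X} (h : x ⤳ y) : msp _ h (oneM y) = oneM x := msp_germ _ _ _ _

theorem oneM_bijective (x : X) : Function.Bijective fun a : X.presheaf.stalk x => a • oneM x := by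
  obtain ⟨e, he⟩ := RefStalk.exists_structStalk (X := X) x
  rw [show (fun a : X.presheaf.stalk x => a • oneM x) = e from funext fun a => (he a).symm]
  exact e.bijective

theorem stalkMap_comp {F G H : X.Modules} (φ : F ⟶ G) (ψ : G ⟶ H) (x : X) (v : F.presheaf.stalk x) :
    RefHull.stalkMapₗ (φ ≫ ψ) x v = RefHull.stalkMapₗ ψ x (RefHull.stalkMapₗ φ x v) := by
  obtain ⟨U, hU, s, rfl⟩ := TopCat.Presheaf.exists_germ_eq F.presheaf v
  rw [RefHull.stalkMapₗ_germ, RefHull.stalkMapₗ_germ, RefHull.stalkMapₗ_germ]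
  rfl

theorem stalkMap_id (F : X.Modules) (x : X) (v : F.presheaf.stalk x) : RefHull.stalkMapₗ (𝟙 F) x v = v := by
  obtain ⟨U, hU, s, rfl⟩ := TopCat.Presheaf.exists_germ_eq F.presheaf v
  rw [RefHull.stalkMapₗ_germ]
  rfl

theorem stalkMap_iso_bijective {F G : X.Modules} (e : F ≅ G) (x : X) :
    Function.Bijective (RefHull.stalkMapₗ e.hom x) :=
  Function.bijective_iff_has_inverse.2 ⟨RefHull.stalkMapₗ e.inv x,
    fun v => by rw [← stalkMap_comp, e.hom_inv_id, stalkMap_id],
    fun v => by rw [← stalkMap_comp, e.inv_hom_id, stalkMap_id]⟩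

variable [IsIntegral X]

theorem oneM_ne_zero : oneM (genericPoint X) ≠ 0 := fun h =>
  one_ne_zero (α := X.functionField) ((oneM_bijective _).1
    (show (1 : X.functionField) • oneM (genericPoint X) = (0 : X.functionField) • oneM (genericPoint X) by
      rw [h, smul_zero, smul_zero]))

theorem lat_structureModule [IsLocallyNoetherian X] : Lat (Coh.structureModule X) := by
  refine ⟨RefStalk.isCoh_structureModule, fun x => ?_, oneM _, oneM_ne_zero, (oneM_bijective _).2⟩
  obtain ⟨e, -⟩ := RefStalk.exists_structStalk (X := X) x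
  exact e.symm.injective.moduleIsTorsionFree e.symm (fun r v => map_smul e.symm r v)

theorem isRef1_structureModule [IsLocallyNoetherian X] : RefHull.IsRef1 (Coh.structureModule X) := by
  refine lat_structureModule.isRef1 fun x => ?_
  obtain ⟨e, -⟩ := RefStalk.exists_structStalk (X := X) x
  exact Module.IsReflexive.of_split e.symm.toLinearMap e.toLinearMap (LinearMap.ext e.apply_symm_apply)

/-- A morphism to a lattice is determined at the generic point. -/
theorem hom_ext_generic {F G : X.Modules} (hG : Lat G) {φ ψ : F ⟶ G}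
    (h : ∀ v : St F, RefHull.stalkMapₗ φ (genericPoint X) v = RefHull.stalkMapₗ ψ (genericPoint X) v) : φ = ψ := by
  apply Scheme.Modules.hom_ext
  intro U
  ext s
  refine RefStalk.germ_ext fun y hy => hG.injective_msp y ?_
  rw [show mgerm G hy (φ.app U s) = RefHull.stalkMapₗ φ y (mgerm F hy s) from (RefHull.stalkMapₗ_germ φ y hy s).symm,
    show mgerm G hy (ψ.app U s) = RefHull.stalkMapₗ ψ y (mgerm F hy s) from (RefHull.stalkMapₗ_germ ψ y hy s).symm,
    ← stalkMap_msp, ← stalkMap_msp, h]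

variable [IsLocallyNoetherian X]

/-- The order of a rational section at a point. -/
abbrev dv (M : X.Modules) (x : X) (s : St M) : ℤ :=
  Cyc.secOrdAt M (genericPoint X) x (toGen x) (Submodule.Quotient.mk s)

/-- `M` has a nonzero rational section with divisor `D`. -/
def HasDiv (M : X.Modules) (D : X → ℤ) : Prop :=
  ∃ s : St M, s ≠ 0 ∧ ∀ x : X, Order.coheight x = 1 → dv M x s = D x

variable (hn : Pi1.IsNormalScheme X)

section dual

variable {M : X.Modules}

theorem dual_reflexive (h : Coh.IsCoh M) (x : X) :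
    Module.IsReflexive (X.presheaf.stalk x) ((RefHull.dual M).presheaf.stalk x) := by
  haveI := RegDual.finite_stalk h x
  obtain ⟨e, -⟩ := RefStalk.exists_structStalk (X := X) x
  let ev := LinearEquiv.ofBijective _ (RefStalk.bijective_evalStalk_of_isCoh (G := Coh.structureModule X) h x)
  let E : (RefHull.dual M).presheaf.stalk x ≃ₗ[X.presheaf.stalk x]
      Module.Dual (X.presheaf.stalk x) (M.presheaf.stalk x) :=
    ev ≪≫ₗ LinearEquiv.arrowCongr (LinearEquiv.refl _ _) e.symm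
  haveI := RefStalk.isReflexive_dual (R := X.presheaf.stalk x) (M := M.presheaf.stalk x)
  exact Module.IsReflexive.of_split E.toLinearMap E.symm.toLinearMap
    (LinearMap.ext fun m => E.symm_apply_apply m)

/-- A free generator has a dual generator. -/
theorem exists_dual_gen (h : Coh.IsCoh M) {x : X} {m : M.presheaf.stalk x}
    (hb : Function.Bijective fun a : X.presheaf.stalk x => a • m) :
    ∃ θ : (RefHull.dual M).presheaf.stalk x,
      RefHull.evalStalk M (Coh.structureModule X) x θ m = oneM x ∧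
      ∀ θ', ∃ c : X.presheaf.stalk x, c • θ = θ' := by
  obtain ⟨e, he⟩ := RefStalk.exists_structStalk (X := X) x
  have hev := RefStalk.bijective_evalStalk_of_isCoh (G := Coh.structureModule X) h x
  let E := LinearEquiv.ofBijective (LinearMap.toSpanSingleton (X.presheaf.stalk x) (M.presheaf.stalk x) m) hb
  obtain ⟨θ, hθ⟩ := hev.2 (e.toLinearMap ∘ₗ E.symm.toLinearMap)
  have hm : RefHull.evalStalk M (Coh.structureModule X) x θ m = oneM x := by
    rw [hθ]
    show e (E.symm m) = _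
    rw [show E.symm m = 1 from (LinearEquiv.symm_apply_eq E).2 (one_smul (X.presheaf.stalk x) m).symm, he, one_smul]
    rfl
  refine ⟨θ, hm, fun θ' => ?_⟩
  obtain ⟨c, hc⟩ := (oneM_bijective x).2 (RefHull.evalStalk M (Coh.structureModule X) x θ' m)
  refine ⟨c, hev.1 (LinearMap.ext fun v => ?_)⟩
  obtain ⟨a, rfl⟩ := hb.2 v
  show RefHull.evalStalk M (Coh.structureModule X) x (c • θ) (a • m) =
    RefHull.evalStalk M (Coh.structureModule X) x θ' (a • m)
  rw [map_smul (RefHull.evalStalk M (Coh.structureModule X) x θ'),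
    map_smul (RefHull.evalStalk M (Coh.structureModule X) x (c • θ)), ← hc]
  congr 1
  rw [map_smul, LinearMap.smul_apply, hm]

theorem bijective_smul (h : Lat M) {s : St M} (hs : s ≠ 0) :
    Function.Bijective fun a : X.presheaf.stalk (genericPoint X) => a • s :=
  ⟨fun _ _ => smul_cancel hs, h.exists_smul hs⟩

theorem lat_dual (h : Lat M) : Lat (RefHull.dual M) := by
  refine ⟨RefStalk.isCoh_homSh h.coh RefStalk.isCoh_structureModule, fun x => ?_, ?_⟩
  · haveI := dual_reflexive h.coh x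
    exact RefStalk.isTorsionFree_of_isReflexive _
  · obtain ⟨s, hs, -⟩ := h.gen
    obtain ⟨θ, hθ, hg⟩ := exists_dual_gen h.coh (bijective_smul h hs)
    exact ⟨θ, fun e => oneM_ne_zero (by rw [← hθ, e, map_zero]; rfl), hg⟩

theorem isRef1_dual (h : Lat M) : RefHull.IsRef1 (RefHull.dual M) :=
  (lat_dual h).isRef1 (dual_reflexive h.coh)

include hn in
theorem hasDiv_dual (h : Lat M) {D : X → ℤ} (hD : HasDiv M D) : HasDiv (RefHull.dual M) (fun x => - D x) := by
  obtain ⟨s, hs, hsD⟩ := hD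
  obtain ⟨θs, hθs, -⟩ := exists_dual_gen h.coh (bijective_smul h hs)
  refine ⟨θs, fun e => oneM_ne_zero (by rw [← hθs, e, map_zero]; rfl), fun x hx => ?_⟩
  obtain ⟨m, hm⟩ := h.exists_span hn hx
  haveI := h.tf x
  have hb : Function.Bijective fun a : X.presheaf.stalk x => a • m :=
    ⟨smul_left_injective _ fun e => h.msp_ne_zero hm (by rw [e, map_zero]), exists_smul_of_span hm⟩
  obtain ⟨θ, hθ, hg⟩ := exists_dual_gen h.coh hb
  obtain ⟨φ, hφ, hφs⟩ := h.exists_coeff hm hs
  have hsp := span_eq_top_of_surjective hg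
  have key : φ⁻¹ • msp (RefHull.dual M) (toGen x) θ = θs := by
    refine (RefStalk.bijective_evalStalk_of_isCoh (G := Coh.structureModule X) h.coh _).1
      (LinearMap.ext fun v => ?_)
    obtain ⟨a, rfl⟩ := h.exists_smul hs v
    rw [map_smul (RefHull.evalStalk M (Coh.structureModule X) _ θs), hθs,
      map_smul (RefHull.evalStalk M (Coh.structureModule X) (genericPoint X)), LinearMap.smul_apply, map_smul,
      ← hφs, map_smul, eval_msp, hθ, msp_oneM, smul_comm φ⁻¹ a, smul_smul φ⁻¹ φ, inv_mul_cancel₀ hφ, one_smul]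
  show dv _ x θs = - D x
  rw [dv, (lat_dual h).secOrdAt_mk hx hsp (inv_ne_zero hφ) key, ord_inv hφ, ← hsD x hx, dv,
    h.secOrdAt_mk hx hm hφ hφs]

end dual

include hn in
theorem hasDiv_structureModule : HasDiv (Coh.structureModule X) (fun _ => 0) := by
  refine ⟨oneM _, oneM_ne_zero, fun x hx => ?_⟩
  rw [dv, lat_structureModule.secOrdAt_mk hx (span_eq_top_of_surjective (oneM_bijective x).2)
    (one_ne_zero (α := X.functionField)) (by rw [msp_oneM, one_smul]), ord_one]

section tensor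

variable {F G : X.Modules}

omit [IsLocallyNoetherian X] in
/-- Germs of tensors at the generic point in terms of fixed generators. -/
theorem germ_tm_eq {W W₀ : X.Opens} (hW : genericPoint X ∈ W) (hW₀ : genericPoint X ∈ W₀)
    {a : Γ(F, W)} {b : Γ(G, W)} {e : Γ(F, W₀)} {f : Γ(G, W₀)} (he : IsGen e) (hf : IsGen f)
    {φ ψ : X.functionField} (ha : φ • mgerm F hW₀ e = mgerm F hW a) (hb : ψ • mgerm G hW₀ f = mgerm G hW b) :
    mgerm (CohB1.tensorMod F G) hW (tm a b) = (φ * ψ) • mgerm (CohB1.tensorMod F G) hW₀ (tm e f) := by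
  have hO : genericPoint X ∈ W ⊓ W₀ := ⟨hW, hW₀⟩
  obtain ⟨r, hr⟩ := (he (W ⊓ W₀) inf_le_right).2 (res F inf_le_left a)
  obtain ⟨r', hr'⟩ := (hf (W ⊓ W₀) inf_le_right).2 (res G inf_le_left b)
  change r • res F inf_le_right e = _ at hr
  change r' • res G inf_le_right f = _ at hr'
  have h1 : (X.presheaf.germ (W ⊓ W₀) _ hO).hom r = φ := by
    refine (bijective_germ_of_isGen he hW₀).1 ?_
    show _ • mgerm F hW₀ e = φ • mgerm F hW₀ e
    rw [ha, ← smul_mgerm_res (inf_le_right : W ⊓ W₀ ≤ W₀) hO, hr, mgerm_res]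
  have h2 : (X.presheaf.germ (W ⊓ W₀) _ hO).hom r' = ψ := by
    refine (bijective_germ_of_isGen hf hW₀).1 ?_
    show _ • mgerm G hW₀ f = ψ • mgerm G hW₀ f
    rw [hb, ← smul_mgerm_res (inf_le_right : W ⊓ W₀ ≤ W₀) hO, hr', mgerm_res]
  rw [← h1, ← h2, ← mgerm_res (CohB1.tensorMod F G) (inf_le_left : W ⊓ W₀ ≤ W) hO (tm a b), res_tm, ← hr, ← hr',
    smul_tm, tm_smul, ← res_tm, mgerm_smul, mgerm_smul, mgerm_res, smul_smul]

theorem isCoh_tensor (hF : Coh.IsCoh F) (hG : Coh.IsCoh G) : Coh.IsCoh (CohB1.tensorMod F G) := by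
  haveI : Coh.IsQCoh F := hF.1
  haveI : Coh.IsQCoh G := hG.1
  exact ⟨(S2297.result F G).1, (S2297.result F G).2 hF.2 hG.2⟩

theorem bijective_bidual_generic {M : X.Modules} (hM : Coh.IsCoh M) :
    Function.Bijective (RefHull.stalkMapₗ (RefHull.bidualMap M) (genericPoint X)) := by
  letI : Field (X.presheaf.stalk (genericPoint X)) := inferInstanceAs (Field X.functionField)
  haveI := RegDual.finite_stalk hM (genericPoint X)
  exact RefStalk.bijective_stalkMap_bidualMap hM _
    (inferInstance : Module.IsReflexive (X.presheaf.stalk (genericPoint X)) (M.presheaf.stalk (genericPoint X)))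

theorem lat_tensor (hF : Lat F) (hG : Lat G) : Lat (RefHull.ddual (CohB1.tensorMod F G)) := by
  have hc := isCoh_tensor hF.coh hG.coh
  refine ⟨RefStalk.isCoh_homSh (RefStalk.isCoh_homSh hc RefStalk.isCoh_structureModule)
    RefStalk.isCoh_structureModule, fun x => ?_, ?_⟩
  · haveI := RefStalk.isReflexiveAt_ddual hc x
    exact RefStalk.isTorsionFree_of_isReflexive _
  · obtain ⟨W, hW, e, he⟩ := hF.exists_isGen_generic
    obtain ⟨W', hW', f, hf⟩ := hG.exists_isGen_generic
    have hg := bijective_germ_of_isGen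
      (isGen_tm (he.res (inf_le_left : W ⊓ W' ≤ W)) (hf.res (inf_le_right : W ⊓ W' ≤ W')))
      (show genericPoint X ∈ W ⊓ W' from ⟨hW, hW'⟩)
    have hb := bijective_bidual_generic hc
    refine ⟨RefHull.stalkMapₗ (RefHull.bidualMap _) _ (mgerm (CohB1.tensorMod F G)
      (show genericPoint X ∈ W ⊓ W' from ⟨hW, hW'⟩)
      (tm (res F inf_le_left e) (res G inf_le_right f))), fun h0 => zero_ne_one (α := X.functionField) (hg.1 ?_),
      fun v => ?_⟩
    · show (0 : X.functionField) • _ = (1 : X.functionField) • _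
      rw [hb.1 (h0.trans (map_zero _).symm), smul_zero, smul_zero]
    · obtain ⟨u, rfl⟩ := hb.2 v
      obtain ⟨c, rfl⟩ := hg.2 u
      exact ⟨c, (map_smul _ _ _).symm⟩

theorem isRef1_tensor (hF : Lat F) (hG : Lat G) : RefHull.IsRef1 (RefHull.ddual (CohB1.tensorMod F G)) :=
  (lat_tensor hF hG).isRef1 fun x => RefStalk.isReflexiveAt_ddual (isCoh_tensor hF.coh hG.coh) x

include hn in
theorem hasDiv_tensor (hF : Lat F) (hG : Lat G) {s : St F} (hs : s ≠ 0) {t : St G} (ht : t ≠ 0) :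
    ∃ w : St (RefHull.ddual (CohB1.tensorMod F G)), w ≠ 0 ∧ ∀ x : X, Order.coheight x = 1 →
      dv (RefHull.ddual (CohB1.tensorMod F G)) x w = dv F x s + dv G x t := by
  have hc := isCoh_tensor hF.coh hG.coh
  obtain ⟨W₁, hW₁, e₁, he₁⟩ := hF.exists_isGen_generic
  obtain ⟨W₂, hW₂, f₁, hf₁⟩ := hG.exists_isGen_generic
  have hη : genericPoint X ∈ W₁ ⊓ W₂ := ⟨hW₁, hW₂⟩
  have he := he₁.res (inf_le_left : W₁ ⊓ W₂ ≤ W₁)
  have hf := hf₁.res (inf_le_right : W₁ ⊓ W₂ ≤ W₂)
  obtain ⟨φ₀, hφ₀⟩ := (bijective_germ_of_isGen he hη).2 s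
  change φ₀ • _ = s at hφ₀
  obtain ⟨ψ₀, hψ₀⟩ := (bijective_germ_of_isGen hf hη).2 t
  change ψ₀ • _ = t at hψ₀
  let g := mgerm (CohB1.tensorMod F G) hη (tm (res F inf_le_left e₁) (res G inf_le_right f₁))
  let β := RefHull.stalkMapₗ (RefHull.bidualMap (CohB1.tensorMod F G)) (genericPoint X)
  have hg0 : g ≠ 0 := fun h0 => zero_ne_one (α := X.functionField) ((bijective_germ_of_isGen (isGen_tm he hf) hη).1
    (show (0 : X.functionField) • g = (1 : X.functionField) • g by rw [h0, smul_zero, smul_zero]))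
  have hφ0 : (φ₀ : X.functionField) ≠ 0 := fun e => hs (by rw [← hφ₀]; show φ₀ • _ = _; rw [e]; exact zero_smul _ _)
  have hψ0 : (ψ₀ : X.functionField) ≠ 0 := fun e => ht (by rw [← hψ₀]; show ψ₀ • _ = _; rw [e]; exact zero_smul _ _)
  have hβg : β g ≠ 0 := fun h0 => hg0 ((bijective_bidual_generic hc).1 (h0.trans (map_zero β).symm))
  refine ⟨(φ₀ * ψ₀ : X.functionField) • β g, smul_ne_zero' hβg (mul_ne_zero hφ0 hψ0), fun x hx => ?_⟩
  obtain ⟨m, hm⟩ := hF.exists_span hn hx
  obtain ⟨m', hm'⟩ := hG.exists_span hn hx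
  obtain ⟨A, hxA, a, ha, hga⟩ := hF.exists_isGen hm
  obtain ⟨B, hxB, b, hb, hgb⟩ := hG.exists_isGen hm'
  obtain ⟨φ, hφ, hφs⟩ := hF.exists_coeff hm hs
  obtain ⟨ψ, hψ, hψt⟩ := hG.exists_coeff hm' ht
  have hxO : x ∈ A ⊓ B := ⟨hxA, hxB⟩
  have hηO : genericPoint X ∈ A ⊓ B := (toGen x).mem_open (A ⊓ B).2 hxO
  have hea : (φ⁻¹ * φ₀) • mgerm F hη (res F inf_le_left e₁) = mgerm F hηO (res F inf_le_left a) := by
    rw [mul_smul, hφ₀, ← hφs, smul_smul, inv_mul_cancel₀ hφ, one_smul,
      ← msp_germ F (toGen x) hxO, mgerm_res, ha]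
  have heb : (ψ⁻¹ * ψ₀) • mgerm G hη (res G inf_le_right f₁) = mgerm G hηO (res G inf_le_right b) := by
    rw [mul_smul, hψ₀, ← hψt, smul_smul, inv_mul_cancel₀ hψ, one_smul,
      ← msp_germ G (toGen x) hxO, mgerm_res, hb]
  let c := mgerm (CohB1.tensorMod F G) hxO (tm (res F inf_le_left a) (res G inf_le_right b))
  have hcspan : Submodule.span (X.presheaf.stalk x) {RefHull.stalkMapₗ (RefHull.bidualMap _) x c} = ⊤ := by
    refine span_eq_top_of_surjective fun v => ?_
    haveI := (hn x).1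
    haveI := CDivNormal.isDVR hn x hx
    obtain ⟨u, rfl⟩ := RefStalk.surjective_stalkMap_bidualMap hc x v
    obtain ⟨k, rfl⟩ := (bijective_germ_of_isGen (isGen_tm (hga.res inf_le_left) (hgb.res inf_le_right)) hxO).2 u
    exact ⟨k, (map_smul _ _ _).symm⟩
  rw [dv, (lat_tensor hF hG).secOrdAt_mk hx hcspan (mul_ne_zero hφ hψ) ?_, dv, dv,
    hF.secOrdAt_mk hx hm hφ hφs, hG.secOrdAt_mk hx hm' hψ hψt, Scheme.ord_mul hφ hψ]
  rw [← stalkMap_msp, msp_germ, germ_tm_eq hηO hη he hf hea heb, map_smul, smul_smul]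
  congr 1
  field_simp

end tensor

section iso

variable {F G : X.Modules}

include hn in
theorem dv_smul (h : Lat F) {s : St F} (hs : s ≠ 0) {f : X.functionField} (hf : f ≠ 0) {x : X}
    (hx : Order.coheight x = 1) : dv F x (f • s) = Scheme.ord f x + dv F x s := by
  obtain ⟨m, hm⟩ := h.exists_span hn hx
  obtain ⟨φ, hφ, rfl⟩ := h.exists_coeff hm hs
  rw [dv, dv, h.secOrdAt_mk hx hm (mul_ne_zero hf hφ) (mul_smul f φ _), h.secOrdAt_mk hx hm hφ rfl,
    Scheme.ord_mul hf hφ]

include hn in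
theorem dv_iso (hF : Lat F) (hG : Lat G) (e : F ≅ G) {s : St F} (hs : s ≠ 0) {x : X}
    (hx : Order.coheight x = 1) : dv G x (RefHull.stalkMapₗ e.hom (genericPoint X) s) = dv F x s := by
  obtain ⟨m, hm⟩ := hF.exists_span hn hx
  obtain ⟨φ, hφ, rfl⟩ := hF.exists_coeff hm hs
  have hsp := span_eq_top_of_surjective (M := G) (m := RefHull.stalkMapₗ e.hom x m) fun v => by
    obtain ⟨u, rfl⟩ := (stalkMap_iso_bijective e x).2 v
    obtain ⟨a, rfl⟩ := exists_smul_of_span hm u
    exact ⟨a, (map_smul _ _ _).symm⟩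
  rw [dv, dv, hF.secOrdAt_mk hx hm hφ rfl, hG.secOrdAt_mk hx hsp hφ]
  rw [← stalkMap_msp]
  exact (map_smul (RefHull.stalkMapₗ e.hom (genericPoint X)) φ _).symm

include hn in
theorem hasDiv_iso (hF : Lat F) (hG : Lat G) (e : F ≅ G) {D : X → ℤ} (hD : HasDiv F D) : HasDiv G D := by
  obtain ⟨s, hs, hsD⟩ := hD
  refine ⟨RefHull.stalkMapₗ e.hom _ s, fun h0 => hs ((stalkMap_iso_bijective e _).1 (h0.trans (map_zero _).symm)),
    fun x hx => ?_⟩
  rw [dv_iso hn hF hG e hs hx, hsD x hx]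

include hn in
/-- Sections with the same divisor define a morphism. -/
theorem exists_hom_of_dv (hF : RefHull.IsRef1 F) (hG : RefHull.IsRef1 G) {s : St F} (hs : s ≠ 0) {t : St G}
    (ht : t ≠ 0) (h : ∀ x : X, Order.coheight x = 1 → dv F x s = dv G x t) :
    ∃ ψ : F ⟶ G, RefHull.stalkMapₗ ψ (genericPoint X) s = t := by
  have lF := lat_of_isRef1 hF
  have lG := lat_of_isRef1 hG
  let E := LinearEquiv.ofBijective
    (LinearMap.toSpanSingleton (X.presheaf.stalk (genericPoint X)) (St F) s) (bijective_smul lF hs)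
  let T : St F →ₗ[X.presheaf.stalk (genericPoint X)] St G :=
    LinearMap.toSpanSingleton (X.presheaf.stalk (genericPoint X)) (St G) t ∘ₗ E.symm.toLinearMap
  have hTs : T s = t := by
    show E.symm s • t = t
    rw [show E.symm s = 1 from (LinearEquiv.symm_apply_eq E).2 (one_smul (X.presheaf.stalk (genericPoint X)) s).symm, one_smul]
  obtain ⟨ψ, hψ⟩ := (S16083.result X hn G F hG.1 hF.1 T).2 fun x hx => by
    rw [ringKrullDim_stalk_eq_coheight] at hx
    have hx1 : Order.coheight x = 1 := WithBot.coe_inj.1 hx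
    rintro _ ⟨n, rfl⟩
    obtain ⟨m, hm⟩ := lF.exists_span hn hx1
    obtain ⟨m', hm'⟩ := lG.exists_span hn hx1
    obtain ⟨φ, hφ, hφs⟩ := lF.exists_coeff hm hs
    obtain ⟨ψ, hψ, hψt⟩ := lG.exists_coeff hm' ht
    have hd := h x hx1
    rw [dv, dv, lF.secOrdAt_mk hx1 hm hφ hφs, lG.secOrdAt_mk hx1 hm' hψ hψt] at hd
    obtain ⟨r, hr⟩ := (ord_nonneg_iff hn hx1 (mul_ne_zero (inv_ne_zero hφ) hψ)).1 (by
      rw [Scheme.ord_mul (inv_ne_zero hφ) hψ, ord_inv hφ]; omega)
    obtain ⟨a, rfl⟩ := exists_smul_of_span hm n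
    refine ⟨(a * r) • m', ?_⟩
    show msp G (toGen x) ((a * r) • m') = T (msp F (toGen x) (a • m))
    rw [msp_smul, msp_smul, map_smul, map_mul, show sp x r = φ⁻¹ * ψ from hr, mul_smul, mul_smul]
    congr 1
    rw [hψt, ← hTs, ← map_smul, ← hφs, smul_smul, inv_mul_cancel₀ hφ, one_smul]
  haveI : IsIso (RefHull.bidualMap G) := hG.2.1
  refine ⟨ψ ≫ inv (RefHull.bidualMap G), ?_⟩
  rw [stalkMap_comp, hψ, LinearMap.comp_apply, hTs, ← stalkMap_comp, IsIso.hom_inv_id, stalkMap_id]

include hn in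
/-- Rank one reflexive modules with a common divisor are isomorphic. -/
theorem nonempty_iso (hF : RefHull.IsRef1 F) (hG : RefHull.IsRef1 G) {D : X → ℤ} (hDF : HasDiv F D)
    (hDG : HasDiv G D) : Nonempty (F ≅ G) := by
  obtain ⟨s, hs, hsD⟩ := hDF
  obtain ⟨t, ht, htD⟩ := hDG
  obtain ⟨φ, hφ⟩ := exists_hom_of_dv hn hF hG hs ht fun x hx => by rw [hsD x hx, htD x hx]
  obtain ⟨ψ, hψ⟩ := exists_hom_of_dv hn hG hF ht hs fun x hx => by rw [hsD x hx, htD x hx]
  refine ⟨⟨φ, ψ, hom_ext_generic (lat_of_isRef1 hF) fun v => ?_, hom_ext_generic (lat_of_isRef1 hG) fun v => ?_⟩⟩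
  · obtain ⟨c, rfl⟩ := (lat_of_isRef1 hF).exists_smul hs v
    rw [map_smul, map_smul, stalkMap_comp, hφ, hψ, stalkMap_id]
  · obtain ⟨c, rfl⟩ := (lat_of_isRef1 hG).exists_smul ht v
    rw [map_smul, map_smul, stalkMap_comp, hψ, hφ, stalkMap_id]

end iso

end Groth.Agent.RefDiv
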